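import Cfsg.Agent.H218.Fus.PF
import Cfsg.Agent.H775.PU.Bound
import Cfsg.Agent.EvenType.StrongP

/-!
# S5261, part E: `|A|² ≤ |V : C_V(A)| |V : C_V(B)|` and `|A|² ≤ |[V,A]| |[V,B]|` (helper435)

`G` finite with a strongly `p`-embedded subgroup `X`, `V` a finite `G`-module of exponent `p`, `A`, `B ≤ X` `p`-groups, `B ≠ 1`.
The input is S3083 (`B3083`). Main theorems: `core` (kernel `≤ X`, without `p`-elements), `core_mod` (modulo a normal
subgroup acting trivially).
-/

set_option autoImplicit false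
set_option linter.unusedSectionVars false

namespace Cfsg.Agent.H435.TE

open Cfsg.Agent.H218.Count Cfsg.Agent.H218.CountQ Cfsg.Agent.H218.Glob Cfsg.Agent.H218.Fus
open Cfsg.Agent.H775.PU (B3083)

universe u

section Group

variable {G : Type*} [Group G] [Finite G] {p : ℕ} [hp : Fact p.Prime] {X : Subgroup G}

/-- no normal `p`-subgroup -/
theorem pcore_bot (hX : SE p X) {a : G} (ha : a ∈ X) (ha1 : a ≠ 1) (hap : ∃ k, a ^ p ^ k = 1) {K : Subgroup G}
    [hKn : K.Normal] (hK : IsPGroup p K) : K = ⊥ := by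
  set P : Subgroup G := K ⊔ Subgroup.zpowers a with hP
  have hPp : IsPGroup p P := hK.to_sup_of_normal_left (isPGroup_zpowers hap)
  have haP : a ∈ P := Subgroup.mem_sup_right (Subgroup.mem_zpowers a)
  have hnt : Nontrivial P := ⟨⟨a, haP⟩, 1, fun h => ha1 (congrArg Subtype.val h)⟩
  have hc := hPp.center_nontrivial
  obtain ⟨⟨z, hz⟩, hz1⟩ := exists_ne (1 : Subgroup.center P)
  have hz1' : (z : G) ≠ 1 := by
    intro h
    apply hz1
    exact Subtype.ext (Subtype.ext h)
  have hzc : ∀ x ∈ P, x * (z : G) = (z : G) * x := fun x hx =>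
    congrArg Subtype.val (Subgroup.mem_center_iff.1 hz ⟨x, hx⟩)
  have hzX : (z : G) ∈ X := hX.cent ha ha1 hap (hzc a haP).symm
  have hzp : ∃ k, (z : G) ^ p ^ k = 1 := by
    obtain ⟨k, hk⟩ := hPp z
    exact ⟨k, congrArg Subtype.val hk⟩
  have hKX : K ≤ X := fun k hk => hX.cent hzX hz1' hzp (hzc k (Subgroup.mem_sup_left hk))
  by_contra hne
  obtain ⟨k, hk⟩ := Subgroup.ne_bot_iff_exists_ne_one.1 hne
  obtain ⟨g, hg⟩ := hX.ne
  obtain ⟨n, hn⟩ := hK k
  exact hX.se k (hKX k.2) (fun h => hk (Subtype.ext h)) ⟨n, congrArg Subtype.val hn⟩ g hg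
    (hKX (hKn.conj_mem k k.2 g))

/-- `IsStronglyPEmbedded` from `SE` -/
theorem strong_of (hX : SE p X) (hd : p ∣ Nat.card X) : Cfsg.IsStronglyPEmbedded p X := by
  refine Cfsg.Agent.EvenType.StrongP.of_inter hd ?_ ?_
  · rintro rfl
    obtain ⟨x, hx⟩ := hX.ne
    exact hx (Subgroup.mem_top x)
  · intro g hg hdvd
    obtain ⟨⟨y, hy⟩, hyo⟩ := exists_prime_orderOf_dvd_card' p hdvd
    rw [Subgroup.orderOf_mk] at hyo
    obtain ⟨x, hx, hxy⟩ := hy.2
    have hxy' : g * x * g⁻¹ = y := hxy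
    have hx1 : x ≠ 1 := by
      rintro rfl
      rw [mul_one, mul_inv_cancel] at hxy'
      rw [← hxy', orderOf_one] at hyo
      exact hp.out.one_lt.ne hyo
    have hxp : x ^ p ^ 1 = 1 := by
      rw [pow_one]
      have h1 : x = g⁻¹ * y * g⁻¹⁻¹ := by rw [← hxy']; group
      rw [h1, conj_pow, ← hyo, pow_orderOf_eq_one]
      group
    apply hX.se x hx hx1 ⟨1, hxp⟩ g hg
    rw [hxy']
    exact hy.1

end Group

section Core

variable {G M : Type u} [Group G] [Finite G] [AddCommGroup M] [Finite M] [DistribMulAction G M]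
  {p : ℕ} [hp : Fact p.Prime] {X A B : Subgroup G}

/-- S3083 for a module -/
theorem sq_le (b : B3083.{u}) (pM : ∀ m : M, p • m = 0) (hX : SE p X) (hd : p ∣ Nat.card X)
    (hf : ∀ g : G, (∀ m : M, g • m = m) → g = 1) (T : Sylow p G) : Nat.card T ^ 2 ≤ Nat.card M := by
  obtain ⟨inst⟩ : Nonempty (Module (ZMod p) M) := ⟨AddCommGroup.zmodModule (n := p) pM⟩
  let ρ : G →* Module.End (ZMod p) M :=
    { toFun := fun g => AddMonoidHom.toZModLinearMap p (DistribSMul.toAddMonoidHom M g)
      map_one' := by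
        apply LinearMap.ext
        intro m
        exact one_smul G m
      map_mul' := fun g h => by
        apply LinearMap.ext
        intro m
        exact mul_smul g h m }
  have hρ : Function.Injective ρ := by
    rw [injective_iff_map_eq_one]
    intro g hg
    apply hf
    intro m
    have h1 : ρ g m = m := by rw [hg]; rfl
    exact h1
  exact b p X (strong_of hX hd) T M ρ hρ

theorem index_fx_cj (x : G) (A : Subgroup G) : (fx M (cj x A)).index = (fx M A).index := by
  have h1 := (fx M (cj x A)).card_mul_index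
  rw [card_fx_cj, ← (fx M A).card_mul_index] at h1
  exact Nat.eq_of_mul_eq_mul_left Nat.card_pos h1

/-- faithful case, centralizers -/
theorem core_faithful (b : B3083.{u}) (pM : ∀ m : M, p • m = 0) (hX : SE p X)
    (hf : ∀ g : G, (∀ m : M, g • m = m) → g = 1) (hAX : A ≤ X) (hBX : B ≤ X) (hA : IsPGroup p A) (hB : IsPGroup p B)
    (hBne : B ≠ ⊥) : Nat.card A ^ 2 ≤ (fx M A).index * (fx M B).index := by
  classical
  by_cases hAb : A = ⊥
  · rw [hAb, Subgroup.card_bot, one_pow]
    exact Nat.mul_pos (Nat.pos_of_ne_zero AddSubgroup.index_ne_zero_of_finite)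
      (Nat.pos_of_ne_zero AddSubgroup.index_ne_zero_of_finite)
  obtain ⟨x, hx⟩ := hX.ne
  set J : Subgroup G := B ⊔ cj x A with hJ
  set Y : Subgroup J := (cj x X).subgroupOf J with hY
  have hYmem : ∀ z : J, z ∈ Y ↔ x⁻¹ * (z : G) * x ∈ X := fun z => by
    rw [hY, Subgroup.mem_subgroupOf, mem_cj]
  -- `Y` is strongly `p`-embedded in `J`
  have hSE : SE p Y := by
    refine ⟨?_, ?_⟩
    · obtain ⟨c, hc⟩ := Subgroup.ne_bot_iff_exists_ne_one.1 hBne
      obtain ⟨k, hk⟩ := hB c
      refine ⟨⟨c, Subgroup.mem_sup_left c.2⟩, ?_⟩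
      rw [hYmem]
      intro h
      have h1 := hX.se (x⁻¹ * (c : G) * x) h (by
        intro h2
        apply hc
        apply Subtype.ext
        have h3 : (c : G) = x * (x⁻¹ * (c : G) * x) * x⁻¹ := by group
        rw [h3, h2]
        simp) ⟨k, by
          have h3 : x⁻¹ * (c : G) * x = x⁻¹ * (c : G) * x⁻¹⁻¹ := by rw [inv_inv]
          have h4 : (c : G) ^ p ^ k = 1 := congrArg Subtype.val hk
          rw [h3, conj_pow, h4]
          group⟩ x hx
      apply h1
      have h3 : x * (x⁻¹ * (c : G) * x) * x⁻¹ = (c : G) := by group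
      rw [h3]
      exact hBX c.2
    · rintro q hq hq1 ⟨k, hk⟩ g hg hmem
      rw [hYmem] at hq hg hmem
      have h4 : (q : G) ^ p ^ k = 1 := congrArg Subtype.val hk
      apply hX.se (x⁻¹ * (q : G) * x) hq (by
        intro h2
        apply hq1
        apply Subtype.ext
        have h3 : (q : G) = x * (x⁻¹ * (q : G) * x) * x⁻¹ := by group
        rw [h3, h2]
        simp) ⟨k, by
          have h3 : x⁻¹ * (q : G) * x = x⁻¹ * (q : G) * x⁻¹⁻¹ := by rw [inv_inv]
          rw [h3, conj_pow, h4]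
          group⟩ (x⁻¹ * (g : G) * x) hg
      have h5 : x⁻¹ * (g : G) * x * (x⁻¹ * (q : G) * x) * (x⁻¹ * (g : G) * x)⁻¹ =
          x⁻¹ * ((g * q * g⁻¹ : J) : G) * x := by
        push_cast
        group
      rw [h5]
      exact hmem
  -- the conjugate of `A` in `J`
  set A' : Subgroup J := (cj x A).subgroupOf J with hA'
  have hA'J : cj x A ≤ J := le_sup_right
  have hA'c : Nat.card A' = Nat.card A := by
    rw [hA', Nat.card_congr (Subgroup.subgroupOfEquivOfLe hA'J).toEquiv]
    exact Subgroup.card_map_of_injective (MulAut.conj x).injective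
  have hA'Y : A' ≤ Y := by
    intro z hz
    rw [hYmem]
    exact hAX (mem_cj.1 (Subgroup.mem_subgroupOf.1 hz))
  have hA'p : IsPGroup p A' := (hA.map (MulAut.conj x).toMonoidHom).comap_subtype
  have hA'ne : A' ≠ ⊥ := by
    intro h
    apply hAb
    rw [← Subgroup.card_eq_one, ← hA'c, h, Subgroup.card_bot]
  obtain ⟨a, ha⟩ := Subgroup.ne_bot_iff_exists_ne_one.1 hA'ne
  obtain ⟨ka, hka⟩ := hA'p a
  -- the module `M / C_M(J)`
  set C : AddSubgroup M := fx M J with hC
  let := quotAct (L := J) C (fun l m hm => by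
    show (l : G) • m ∈ C
    rw [hm l l.2]
    exact hm)
  have hmk : ∀ (l : J) (m : M), l • (QuotientAddGroup.mk m : M ⧸ C) = QuotientAddGroup.mk ((l : G) • m) := fun l m => rfl
  have hmke : ∀ (l : J) (m : M), l • (QuotientAddGroup.mk m : M ⧸ C) = QuotientAddGroup.mk m ↔ (l : G) • m - m ∈ C := by
    intro l m
    rw [hmk, QuotientAddGroup.eq_iff_sub_mem]
  -- the kernel is a `p`-group
  let K : Subgroup J :=
    { carrier := {l | ∀ m : M, l • (QuotientAddGroup.mk m : M ⧸ C) = QuotientAddGroup.mk m}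
      one_mem' := fun m => one_smul J _
      mul_mem' := fun {l l'} hl hl' m => by rw [mul_smul, hl' m, hl m]
      inv_mem' := fun {l} hl m => by rw [inv_smul_eq_iff, hl m] }
  have hKn : K.Normal := by
    refine ⟨fun l hl g m => ?_⟩
    obtain ⟨m', hm'⟩ := QuotientAddGroup.mk_surjective (g⁻¹ • (QuotientAddGroup.mk m : M ⧸ C))
    rw [mul_smul, mul_smul, ← hm', hl m', hm', smul_inv_smul]
  have hKp : IsPGroup p K := by
    rintro ⟨l, hl⟩
    refine ⟨1, ?_⟩
    apply Subtype.ext
    apply Subtype.ext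
    show (l : G) ^ p ^ 1 = 1
    rw [pow_one]
    apply hf
    intro m
    have h1 : (l : G) • m - m ∈ C := (hmke l m).1 (hl m)
    have h2 : (l : G) • ((l : G) • m - m) = (l : G) • m - m := h1 l l.2
    have h3 : ∀ k : ℕ, (l : G) ^ k • m = m + k • ((l : G) • m - m) := by
      intro k
      induction k with
      | zero => simp
      | succ k ih =>
        rw [pow_succ', mul_smul, ih, smul_add, smul_comm (l : G) k, h2, succ_nsmul]
        abel
    rw [h3 p, pM, add_zero]
  have hKb : K = ⊥ := pcore_bot hSE (hA'Y a.2) (fun h => ha (Subtype.ext h)) ⟨ka, congrArg Subtype.val hka⟩ hKp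
  have hfJ : ∀ g : J, (∀ m : M ⧸ C, g • m = m) → g = 1 := by
    intro g hg
    have h1 : g ∈ K := fun m => hg _
    rwa [hKb, Subgroup.mem_bot] at h1
  obtain ⟨T, hT⟩ := hA'p.exists_le_sylow
  have hdY : p ∣ Nat.card Y := by
    obtain ⟨n, hn⟩ := IsPGroup.iff_card.1 hA'p
    have hn0 : n ≠ 0 := by
      rintro rfl
      rw [pow_zero] at hn
      exact hA'ne (Subgroup.card_eq_one.1 hn)
    refine dvd_trans ?_ (Subgroup.card_dvd_of_le hA'Y)
    rw [hn]
    exact dvd_pow_self p hn0
  have key := sq_le (M := M ⧸ C) b (by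
    intro q
    obtain ⟨m, rfl⟩ := QuotientAddGroup.mk_surjective q
    rw [← QuotientAddGroup.mk_nsmul, pM]; rfl) hSE hdY hfJ T
  have h1 : Nat.card A ≤ Nat.card T := by
    rw [← hA'c]
    exact Subgroup.card_le_of_le hT
  have h2 : C = fx M B ⊓ fx M (cj x A) := by
    apply le_antisymm
    · intro m hm
      exact ⟨fun c hc => hm c (Subgroup.mem_sup_left hc), fun c hc => hm c (Subgroup.mem_sup_right hc)⟩
    · rintro m ⟨hm1, hm2⟩
      have h3 : J ≤ MulAction.stabilizer G m := by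
        rw [hJ, sup_le_iff]
        exact ⟨fun c hc => hm1 c hc, fun c hc => hm2 c hc⟩
      exact fun c hc => h3 hc
  calc Nat.card A ^ 2 ≤ Nat.card T ^ 2 := Nat.pow_le_pow_left h1 2
    _ ≤ Nat.card (M ⧸ C) := key
    _ = C.index := (AddSubgroup.index_eq_card C).symm
    _ ≤ (fx M B).index * (fx M (cj x A)).index := by
        rw [h2]
        exact AddSubgroup.index_inf_le
    _ = (fx M A).index * (fx M B).index := by rw [index_fx_cj, mul_comm]

/-- **centralizers**; the kernel is contained in `X` and has no `p`-elements -/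
theorem core_fx (b : B3083.{u}) (pM : ∀ m : M, p • m = 0) (hX : SE p X)
    (hf : ∀ g : G, (∀ m : M, g • m = m) → (∃ k, g ^ p ^ k = 1) → g = 1) (hK : ∀ g : G, (∀ m : M, g • m = m) → g ∈ X)
    (hAX : A ≤ X) (hBX : B ≤ X) (hA : IsPGroup p A) (hB : IsPGroup p B) (hBne : B ≠ ⊥) :
    Nat.card A ^ 2 ≤ (fx M A).index * (fx M B).index := by
  classical
  set f : G →* Equiv.Perm M := MulAction.toPermHom G M with hfdef
  let := rangeAct G M
  let φ : G →* f.range := f.rangeRestrict
  have hφ : Function.Surjective φ := f.rangeRestrict_surjective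
  have hfin : Finite f.range := Finite.of_surjective φ hφ
  have hact : ∀ (g : G) (m : M), (φ g) • m = g • m := fun g m => rfl
  have hker : ∀ g : G, φ g = 1 → ∀ m : M, g • m = m := by
    intro g hg m
    rw [← hact, hg, one_smul]
  have hKX : φ.ker ≤ X := fun g hg => hK g (hker g hg)
  have hcard : ∀ D : Subgroup G, IsPGroup p D → Nat.card D = Nat.card (D.map φ) := by
    intro D hD
    refine Nat.card_congr (Equiv.ofBijective (fun d : D => (⟨φ d, ⟨d, d.2, rfl⟩⟩ : D.map φ)) ⟨?_, ?_⟩)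
    · intro c d hcd
      have h4 : φ (c : G) = φ (d : G) := congrArg Subtype.val hcd
      obtain ⟨k, hk⟩ := hD (c * d⁻¹)
      have h5 : ((c : G) * (d : G)⁻¹) = 1 := by
        refine hf _ (hker _ (by rw [map_mul, map_inv, h4, mul_inv_cancel])) ⟨k, ?_⟩
        exact congrArg Subtype.val hk
      exact Subtype.ext (mul_inv_eq_one.1 h5)
    · rintro ⟨_, d, hd, rfl⟩
      exact ⟨⟨d, hd⟩, rfl⟩
  have hfx : ∀ D : Subgroup G, fx M (D.map φ) = fx M D := by
    intro D
    ext m
    constructor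
    · intro h a ha
      rw [← hact]
      exact h _ ⟨a, ha, rfl⟩
    · rintro h _ ⟨a, ha, rfl⟩
      rw [hact]
      exact h a ha
  have h1 := core_faithful (M := M) (A := A.map φ) (B := B.map φ) b pM (hX.map hφ hKX) (by
    intro g hg
    apply Subtype.ext
    ext m
    exact hg m) (Subgroup.map_mono hAX) (Subgroup.map_mono hBX) (hA.map φ) (hB.map φ) (by
      intro h
      apply hBne
      rw [← Subgroup.card_eq_one, hcard B hB, h, Subgroup.card_bot])
  rwa [hfx, hfx, ← hcard A hA] at h1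

/-- the index of the fixed points on the dual -/
theorem index_dual (pM : ∀ m : M, p • m = 0) (A : Subgroup G) :
    letI := dualAct G M p
    (fx (M →+ ZMod p) A).index = Nat.card (cm M A) := by
  classical
  let := dualAct G M p
  have hact : ∀ (g : G) (f : M →+ ZMod p) (m : M), (g • f) m = f (g⁻¹ • m) := fun g f m => rfl
  have hfin : Finite (M →+ ZMod p) := DFunLike.finite _
  have h2 : Nat.card (fx (M →+ ZMod p) A) = (cm M A).index := by
    rw [AddSubgroup.index_eq_card, ← card_dual p (Q := M ⧸ cm M A) (by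
      intro q
      obtain ⟨m, rfl⟩ := QuotientAddGroup.mk_surjective q
      rw [← QuotientAddGroup.mk_nsmul, pM]; rfl)]
    refine Nat.card_congr ⟨fun f => QuotientAddGroup.lift (cm M A) f.1 ?_, fun f =>
      ⟨f.comp (QuotientAddGroup.mk' (cm M A)), ?_⟩, ?_, ?_⟩
    · show cm M A ≤ (f.1).ker
      refine (AddSubgroup.closure_le _).2 ?_
      rintro _ ⟨a, ha, u, rfl⟩
      rw [SetLike.mem_coe, AddMonoidHom.mem_ker, map_sub, sub_eq_zero]
      have h3 := DFunLike.congr_fun (f.2 a⁻¹ (inv_mem ha)) u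
      rw [hact, inv_inv] at h3
      exact h3
    · intro a ha
      ext m
      rw [hact]
      show f (QuotientAddGroup.mk (a⁻¹ • m)) = f (QuotientAddGroup.mk m)
      congr 1
      rw [QuotientAddGroup.eq]
      have h3 : a⁻¹ • m - m ∈ cm M A := AddSubgroup.subset_closure ⟨a⁻¹, inv_mem ha, m, rfl⟩
      have h4 := neg_mem h3
      have e : -(a⁻¹ • m - m) = -(a⁻¹ • m) + m := by abel
      rwa [e] at h4
    · intro f
      apply Subtype.ext
      ext m
      rfl
    · intro f
      ext m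
      rfl
  have h3 := (fx (M →+ ZMod p) A).card_mul_index
  rw [h2, card_dual p pM, ← (cm M A).card_mul_index, mul_comm (Nat.card (cm M A))] at h3
  exact Nat.eq_of_mul_eq_mul_left (Nat.pos_of_ne_zero AddSubgroup.index_ne_zero_of_finite) h3

/-- **commutators**; the kernel is contained in `X` and has no `p`-elements -/
theorem core_cm (b : B3083.{u}) (pM : ∀ m : M, p • m = 0) (hX : SE p X)
    (hf : ∀ g : G, (∀ m : M, g • m = m) → (∃ k, g ^ p ^ k = 1) → g = 1) (hK : ∀ g : G, (∀ m : M, g • m = m) → g ∈ X)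
    (hAX : A ≤ X) (hBX : B ≤ X) (hA : IsPGroup p A) (hB : IsPGroup p B) (hBne : B ≠ ⊥) :
    Nat.card A ^ 2 ≤ Nat.card (cm M A) * Nat.card (cm M B) := by
  classical
  let := dualAct G M p
  have hact : ∀ (g : G) (f : M →+ ZMod p) (m : M), (g • f) m = f (g⁻¹ • m) := fun g f m => rfl
  have hfin : Finite (M →+ ZMod p) := DFunLike.finite _
  have htriv : ∀ g : G, (∀ f : M →+ ZMod p, g • f = f) → ∀ m : M, g • m = m := by
    intro g hg m
    have h2 : g⁻¹ • m - m = 0 := by
      apply exists_sep p pM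
      intro f
      have h3 := DFunLike.congr_fun (hg f) m
      rw [hact] at h3
      rw [map_sub, h3, sub_self]
    rw [sub_eq_zero, inv_smul_eq_iff] at h2
    exact h2.symm
  have h1 := core_fx (M := M →+ ZMod p) (A := A) (B := B) (p := p) b (by
    intro f
    ext m
    show p • f m = 0
    rw [nsmul_eq_mul, CharP.cast_eq_zero, zero_mul]) hX (fun g hg => hf g (htriv g hg))
    (fun g hg => hK g (htriv g hg)) hAX hBX hA hB hBne
  rwa [index_dual pM, index_dual pM] at h1

/-- **modulo a normal subgroup `I` acting trivially**; the kernel is contained in `X`, its `p`-elements in `I` -/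
theorem core_mod {I : Subgroup G} [I.Normal] (b : B3083.{u}) (pM : ∀ m : M, p • m = 0) (hX : SEm p I X)
    (hI : ∀ g ∈ I, ∀ m : M, g • m = m)
    (hf : ∀ g : G, (∀ m : M, g • m = m) → (∃ k, g ^ p ^ k = 1) → g ∈ I) (hK : ∀ g : G, (∀ m : M, g • m = m) → g ∈ X)
    (hAX : A ≤ X) (hBX : B ≤ X) (hA : IsPGroup p A) (hB : IsPGroup p B) (hBne : ¬ B ≤ I) :
    I.relIndex A ^ 2 ≤ (fx M A).index * (fx M B).index ∧
      I.relIndex A ^ 2 ≤ Nat.card (cm M A) * Nat.card (cm M B) := by
  classical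
  let := modAct M I hI
  let φ : G →* G ⧸ I := QuotientGroup.mk' I
  have hact : ∀ (g : G) (m : M), (φ g) • m = g • m := fun g m => rfl
  have hSE := hX.quot
  have hf' : ∀ x : G ⧸ I, (∀ m : M, x • m = m) → (∃ k, x ^ p ^ k = 1) → x = 1 := by
    intro x hx hxp
    obtain ⟨g₀, rfl⟩ := QuotientGroup.mk'_surjective I x
    obtain ⟨g, -, hg, hgp⟩ := exists_lift (X := ⊤) φ (q₀ := g₀) (Subgroup.mem_top _) hxp
    have h1 : g ∈ I := hf g (fun m => by
      have h2 := hx m
      change φ g₀ • m = m at h2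
      rw [← hg] at h2
      exact h2) hgp
    change φ g₀ = 1
    rw [← hg]
    exact (QuotientGroup.eq_one_iff g).2 h1
  have hK' : ∀ x : G ⧸ I, (∀ m : M, x • m = m) → x ∈ X.map φ := by
    intro x hx
    obtain ⟨g, rfl⟩ := QuotientGroup.mk'_surjective I x
    exact ⟨g, hK g hx, rfl⟩
  have hfx : ∀ D : Subgroup G, fx M (D.map φ) = fx M D := by
    intro D
    ext m
    constructor
    · intro h a ha
      rw [← hact]
      exact h _ ⟨a, ha, rfl⟩
    · rintro h _ ⟨a, ha, rfl⟩
      rw [hact]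
      exact h a ha
  have hcm : ∀ D : Subgroup G, cm M (D.map φ) = cm M D := by
    intro D
    unfold cm
    congr 1
    ext x
    constructor
    · rintro ⟨_, ⟨a, ha, rfl⟩, u, rfl⟩
      exact ⟨a, ha, u, by rw [hact]⟩
    · rintro ⟨a, ha, u, rfl⟩
      exact ⟨φ a, ⟨a, ha, rfl⟩, u, by rw [hact]⟩
  have hcard : I.relIndex A = Nat.card (A.map φ) := by
    have h1 := Subgroup.relIndex_ker (K := A) φ
    rwa [QuotientGroup.ker_mk'] at h1
  have hBne' : B.map φ ≠ ⊥ := by
    intro h
    apply hBne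
    intro c hc
    have h1 : φ c ∈ B.map φ := ⟨c, hc, rfl⟩
    rw [h, Subgroup.mem_bot] at h1
    exact (QuotientGroup.eq_one_iff c).1 h1
  have h1 := core_fx b pM hSE hf' hK' (Subgroup.map_mono hAX) (Subgroup.map_mono hBX) (hA.map φ) (hB.map φ) hBne'
  have h2 := core_cm b pM hSE hf' hK' (Subgroup.map_mono hAX) (Subgroup.map_mono hBX) (hA.map φ) (hB.map φ) hBne'
  rw [hfx, hfx, ← hcard] at h1
  rw [hcm, hcm, ← hcard] at h2
  exact ⟨h1, h2⟩

/-- the kernel is in `X` if `X / I` contains an elementary abelian group of rank two -/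
theorem kernel_le {I A0 : Subgroup G} [I.Normal] (hX : SEm p I X) (hI : ∀ g ∈ I, ∀ m : M, g • m = m)
    (hf : ∀ g : G, (∀ m : M, g • m = m) → (∃ k, g ^ p ^ k = 1) → g ∈ I) (hAX : A0 ≤ X)
    (hAc : ∀ a ∈ A0, ∀ b ∈ A0, a * b * a⁻¹ * b⁻¹ ∈ I) (hAp : ∀ a ∈ A0, a ^ p ∈ I) (hlt : p < I.relIndex A0)
    (g : G) (hg : ∀ m : M, g • m = m) : g ∈ X := by
  classical
  let := modAct M I hI
  let φ : G →* G ⧸ I := QuotientGroup.mk' I
  have hact : ∀ (g : G) (m : M), (φ g) • m = g • m := fun g m => rfl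
  have hSE := hX.quot
  have hf' : ∀ x : G ⧸ I, (∀ m : M, x • m = m) → (∃ k, x ^ p ^ k = 1) → x = 1 := by
    intro x hx hxp
    obtain ⟨g₀, rfl⟩ := QuotientGroup.mk'_surjective I x
    obtain ⟨g, -, hg, hgp⟩ := exists_lift (X := ⊤) φ (q₀ := g₀) (Subgroup.mem_top _) hxp
    have h1 : g ∈ I := hf g (fun m => by
      have h2 := hx m
      change φ g₀ • m = m at h2
      rw [← hg] at h2
      exact h2) hgp
    change φ g₀ = 1
    rw [← hg]
    exact (QuotientGroup.eq_one_iff g).2 h1
  have hAc' : ∀ a ∈ A0.map φ, ∀ b ∈ A0.map φ, a * b = b * a := by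
    rintro _ ⟨a, ha, rfl⟩ _ ⟨b, hb, rfl⟩
    have h1 : φ (a * b * a⁻¹ * b⁻¹) = 1 := (QuotientGroup.eq_one_iff _).2 (hAc a ha b hb)
    rw [map_mul, map_mul, map_mul, map_inv, map_inv, mul_inv_eq_one, mul_inv_eq_iff_eq_mul] at h1
    exact h1
  have hAp' : ∀ a ∈ A0.map φ, a ^ p = 1 := by
    rintro _ ⟨a, ha, rfl⟩
    rw [← map_pow]
    exact (QuotientGroup.eq_one_iff _).2 (hAp a ha)
  have hcard : I.relIndex A0 = Nat.card (A0.map φ) := by
    have h1 := Subgroup.relIndex_ker (K := A0) φ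
    rwa [QuotientGroup.ker_mk'] at h1
  have hcy : ¬ IsCyclic (A0.map φ) := by
    intro hcy
    obtain ⟨a, ha⟩ := hcy.exists_generator
    have h1 : orderOf a = Nat.card (A0.map φ) := orderOf_eq_card_of_forall_mem_zpowers ha
    have h2 : orderOf a ∣ p := orderOf_dvd_of_pow_eq_one (Subtype.ext (by simpa using hAp' a a.2))
    have h3 := Nat.le_of_dvd hp.out.pos h2
    rw [h1, ← hcard] at h3
    exact absurd h3 (not_le.2 hlt)
  let K : Subgroup (G ⧸ I) :=
    { carrier := {x | ∀ m : M, x • m = m}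
      one_mem' := fun m => one_smul _ m
      mul_mem' := fun {l l'} hl hl' m => by rw [mul_smul, hl' m, hl m]
      inv_mem' := fun {l} hl m => by rw [inv_smul_eq_iff, hl m] }
  have hKn : K.Normal := by
    refine ⟨fun l hl g m => ?_⟩
    rw [mul_smul, mul_smul, hl, smul_inv_smul]
  have hKX : K ≤ X.map φ := by
    refine hSE.normal_le (Subgroup.map_mono hAX) hAc' hAp' hcy ?_ ?_
    · intro a _
      rw [Subgroup.normalizer_eq_top K]
      trivial
    · intro hdvd
      obtain ⟨⟨x, hx⟩, hxo⟩ := exists_prime_orderOf_dvd_card' p hdvd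
      rw [Subgroup.orderOf_mk] at hxo
      have h1 : x = 1 := hf' x hx ⟨1, by rw [pow_one, ← hxo, pow_orderOf_eq_one]⟩
      rw [h1, orderOf_one] at hxo
      exact hp.out.one_lt.ne hxo
  have h1 : φ g ∈ X.map φ := hKX (show φ g ∈ K from fun m => hg m)
  exact mem_of_map (by rw [QuotientGroup.ker_mk']; exact hX.le) h1

end Core

end Cfsg.Agent.H435.TE
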