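import Cfsg.Agent.H435.TE.Core
import Cfsg.Agent.H802.TE.Defs

/-!
# S5261, part E: (SEC) (helper435, task 5405)

* `sec_gen` : for an essential subgroup `E` and an invariant elementary abelian section `M/N`, central in `E/N`, on which
  `Out_S(E)` is faithful: `|A|² ≤ |[M/N,A]| |[M/N,B]|` and `|A|² ≤ |M/N : C(A)| |M/N : C(B)|`, if the elements of `Γ` which are
  trivial on `M/N` are inner, or if `Out_S(E)` has rank at least two;
* `stSecC_of`, `stSecW_of` : `StSecC`, `StSecW` from S3083.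
-/

set_option autoImplicit false
set_option linter.unusedSectionVars false
set_option linter.unusedVariables false

namespace Cfsg.Agent.H435.TE

open Cfsg Cfsg.FusionSystem Cfsg.Agent.H756.PU Cfsg.Agent.H802 Cfsg.Agent.H802.TE
open Cfsg.Agent.H218.Count Cfsg.Agent.H218.CountQ Cfsg.Agent.H218.Glob Cfsg.Agent.H218.Fus
open Cfsg.Agent.H775.PU (B3083)

universe u

variable {Ω : Type u} [Group Ω] {S E : Subgroup Ω} {p : ℕ} {Γ : Subgroup (MulAut E)}

/-- **The general inequality.** -/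
theorem sec_gen (b : B3083.{u}) (h : Ess S E p Γ) {W0 W A B : Subgroup Ω} (hW0 : Inv Γ W0) (hW : Inv Γ W)
    (hle : W0 ≤ W) (hEW : Com E W W0) (hWp : ∀ w ∈ W, w ^ p ∈ W0)
    (hf : ∀ x ∈ normalizerIn S E, (∀ w ∈ W, x * w * x⁻¹ * w⁻¹ ∈ W0) → x ∈ E)
    (hker : (∀ γ ∈ Γ, (∀ m : E, (m : Ω) ∈ W → ((γ m : E) : Ω) * (m : Ω)⁻¹ ∈ W0) → γ ∈ Inn E) ∨
      ∃ A0 : Subgroup Ω, A0 ≤ normalizerIn S E ∧ Com A0 A0 E ∧ (∀ x ∈ A0, x ^ p ∈ E) ∧ p < E.relIndex A0)
    (hA : A ≤ normalizerIn S E) (hB : B ≤ normalizerIn S E) (hBE : ¬ B ≤ E) :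
    (∀ V V' : Subgroup Ω, V ≤ W → V' ≤ W → Com A W V → Com B W V' →
      (E.relIndex A) ^ 2 ≤ W0.relIndex V * W0.relIndex V') ∧
    (∀ V V' : Subgroup Ω, V ≤ W → V' ≤ W → Com A V W0 → Com B V' W0 →
      (E.relIndex A) ^ 2 ≤ V.relIndex W * V'.relIndex W) := by
  classical
  have hp : Fact p.Prime := ⟨h.pp⟩
  have hfE := finE h
  have hfW : Finite W := Finite.of_injective (Subgroup.inclusion hW.1) (Subgroup.inclusion_injective _)
  have hN := normal_sub h hW0 hW.1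
  have hc : Com W W W0 := fun a ha m hm => hEW a (hW.1 ha) m hm
  let := cgS hN hc
  let := actS hN hc hW0 hW
  obtain ⟨H, hHΓ, hHne, hTH, hTI, hse⟩ := h.spe
  have hI : ((Inn E).subgroupOf Γ).Normal := inferInstance
  have hsm : ∀ (γ : Γ) (w : W), γ • (Additive.ofMul (QuotientGroup.mk w) : Additive (W ⧸ W0.subgroupOf W)) =
    Additive.ofMul (QuotientGroup.mk (res hW γ w)) := fun γ w => rfl
  have hsub : ∀ (γ : Γ) (w : W), γ • (Additive.ofMul (QuotientGroup.mk w) : Additive (W ⧸ W0.subgroupOf W)) -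
    Additive.ofMul (QuotientGroup.mk w) = Additive.ofMul (QuotientGroup.mk (res hW γ w * w⁻¹)) := by
    intro γ w
    rw [sub_eq_add_neg]; rfl
  have hsmi : ∀ (γ : Γ) (w : W), γ • (Additive.ofMul (QuotientGroup.mk w) : Additive (W ⧸ W0.subgroupOf W)) =
      Additive.ofMul (QuotientGroup.mk w) ↔ ((res hW γ w : W) : Ω) * (w : Ω)⁻¹ ∈ W0 := by
    intro γ w
    rw [hsm, Additive.ofMul.apply_eq_iff_eq, QuotientGroup.eq_iff_div_mem, Subgroup.mem_subgroupOf, div_eq_mul_inv]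
    rfl
  have hSEm : SEm p ((Inn E).subgroupOf Γ) (H.subgroupOf Γ) := by
    refine ⟨fun x hx => ?_, ?_, ?_⟩
    · rw [Subgroup.mem_subgroupOf] at hx ⊢
      exact hTH (inn_le_T h hx)
    · by_contra hcon
      push Not at hcon
      apply hHne
      apply le_antisymm hHΓ
      intro g hg
      have := hcon ⟨g, hg⟩
      rwa [Subgroup.mem_subgroupOf] at this
    · rintro q hq hqI ⟨k, hk⟩ g hg hmem
      rw [Subgroup.mem_subgroupOf] at hq hqI hg hmem
      exact hqI (hse g g.2 hg q hq hmem ⟨k, congrArg Subtype.val hk⟩)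
  have hpM : ∀ m : Additive (W ⧸ W0.subgroupOf W), p • m = 0 := by
    intro m
    obtain ⟨w, hw⟩ := QuotientGroup.mk_surjective m.toMul
    obtain rfl : Additive.ofMul (QuotientGroup.mk w) = m := congrArg Additive.ofMul hw
    rw [← ofMul_pow, ← QuotientGroup.mk_pow]
    refine congrArg Additive.ofMul ((QuotientGroup.eq_one_iff _).2 ?_)
    rw [Subgroup.mem_subgroupOf]
    exact hWp w w.2
  have hItriv : ∀ γ ∈ (Inn E).subgroupOf Γ, ∀ m : Additive (W ⧸ W0.subgroupOf W), γ • m = m := by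
    intro γ hγ m
    obtain ⟨w, hw⟩ := QuotientGroup.mk_surjective m.toMul
    obtain rfl : Additive.ofMul (QuotientGroup.mk w) = m := congrArg Additive.ofMul hw
    rw [hsmi]
    rw [Subgroup.mem_subgroupOf] at hγ
    obtain ⟨e, he⟩ := hγ
    rw [res_coe, ← he]
    exact hEW e e.2 w w.2
  have hff : ∀ γ : Γ, (∀ m : Additive (W ⧸ W0.subgroupOf W), γ • m = m) → (∃ k, γ ^ p ^ k = 1) →
      γ ∈ (Inn E).subgroupOf Γ := by
    rintro γ hγ ⟨k, hk⟩
    rw [Subgroup.mem_subgroupOf]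
    have hzp : IsPGroup p (Subgroup.zpowers (γ : MulAut E)) := by
      apply isPGroup_zpowers
      exact ⟨k, congrArg Subtype.val hk⟩
    obtain ⟨g, hg, hgx⟩ := h.syl _ ((Subgroup.zpowers_le).2 γ.2) hzp
    have h1 := hgx _ (Subgroup.mem_zpowers _)
    obtain ⟨x, hx, hxc⟩ := (mem_autInducedBy_iff S E _).1 h1
    have hxE : x ∈ E := by
      refine hf x ⟨hx, mem_normalizer_of_aut hxc⟩ fun w hw => ?_
      have h2 := hγ ((⟨g, hg⟩ : Γ)⁻¹ • Additive.ofMul (QuotientGroup.mk ⟨w, hw⟩))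
      rw [← mul_smul] at h2
      have h3 : ((⟨g, hg⟩ : Γ) * γ * (⟨g, hg⟩ : Γ)⁻¹) •
          (Additive.ofMul (QuotientGroup.mk ⟨w, hw⟩) : Additive (W ⧸ W0.subgroupOf W)) =
          Additive.ofMul (QuotientGroup.mk ⟨w, hw⟩) := by
        rw [mul_assoc, mul_smul, h2, smul_inv_smul]
      rw [hsmi, res_coe] at h3
      have h4 := hxc ⟨w, hW.1 hw⟩
      have h5 : (((⟨g, hg⟩ : Γ) * γ * (⟨g, hg⟩ : Γ)⁻¹ : Γ) : MulAut E) = g * (γ : MulAut E) * g⁻¹ := rfl
      rw [h5, h4] at h3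
      exact h3
    have h6 : g * (γ : MulAut E) * g⁻¹ ∈ Inn E := by
      refine ⟨⟨x, hxE⟩, ?_⟩
      ext e
      exact (hxc e).symm
    have h7 := (innNormal E).conj_mem _ h6 g⁻¹
    have e : g⁻¹ * (g * (γ : MulAut E) * g⁻¹) * g⁻¹⁻¹ = γ := by group
    rwa [e] at h7
  have hrX : ∀ {D : Subgroup Ω} (hD : D ≤ normalizerIn S E), (cjA h hD).range ≤ H.subgroupOf Γ := by
    rintro D hD _ ⟨a, rfl⟩
    rw [Subgroup.mem_subgroupOf]
    exact hTH (cjA_mem_T h hD a)
  have hrp : ∀ {D : Subgroup Ω} (hD : D ≤ normalizerIn S E), IsPGroup p (cjA h hD).range := by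
    intro D hD
    have h1 : IsPGroup p D := h.pgr.to_le (hD.trans inf_le_left)
    exact h1.of_surjective (cjA h hD).rangeRestrict (cjA h hD).rangeRestrict_surjective
  have hridx : ∀ {D : Subgroup Ω} (hD : D ≤ normalizerIn S E),
      ((Inn E).subgroupOf Γ).relIndex (cjA h hD).range = E.relIndex D := by
    intro D hD
    rw [← Subgroup.index_comap]
    unfold Subgroup.relIndex
    congr 1
    ext a
    rw [Subgroup.mem_comap, Subgroup.mem_subgroupOf, Subgroup.mem_subgroupOf, cjA_inn]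
  -- the kernel
  have hKX : ∀ γ : Γ, (∀ m : Additive (W ⧸ W0.subgroupOf W), γ • m = m) → γ ∈ H.subgroupOf Γ := by
    rcases hker with hker | ⟨A0, hA0, hA0c, hA0p, hA0i⟩
    · intro γ hγ
      rw [Subgroup.mem_subgroupOf]
      refine hTH (inn_le_T h (hker γ γ.2 fun m hm => ?_))
      have h1 := hγ (Additive.ofMul (QuotientGroup.mk ⟨(m : Ω), hm⟩))
      rw [hsmi, res_coe] at h1
      exact h1
    · refine kernel_le hSEm hItriv hff (hrX hA0) ?_ ?_ (by rw [hridx hA0]; exact hA0i)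
      · rintro _ ⟨a, rfl⟩ _ ⟨c, rfl⟩
        rw [← map_inv, ← map_inv, ← map_mul, ← map_mul, ← map_mul, Subgroup.mem_subgroupOf, cjA_inn]
        exact hA0c a a.2 c c.2
      · rintro _ ⟨a, rfl⟩
        rw [← map_pow, Subgroup.mem_subgroupOf, cjA_inn]
        exact hA0p a a.2
  have hmain := core_mod (G := Γ) (M := Additive (W ⧸ W0.subgroupOf W)) b hpM hSEm hItriv hff hKX (hrX hA) (hrX hB)
    (hrp hA) (hrp hB) (by
      intro hcon
      apply hBE
      intro x hx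
      rw [← cjA_inn h hB ⟨x, hx⟩]
      have h1 := hcon ⟨⟨x, hx⟩, rfl⟩
      rwa [Subgroup.mem_subgroupOf] at h1)
  rw [hridx hA] at hmain
  -- comparison
  have hfxle : ∀ {D V : Subgroup Ω} (hD : D ≤ normalizerIn S E), Com D V W0 →
      (fx (Additive (W ⧸ W0.subgroupOf W)) (cjA h hD).range).index ≤ V.relIndex W := by
    intro D V hD hV
    let F : Subgroup (W ⧸ W0.subgroupOf W) :=
      Subgroup.toAddSubgroup.symm (fx (Additive (W ⧸ W0.subgroupOf W)) (cjA h hD).range)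
    have h1 : (fx (Additive (W ⧸ W0.subgroupOf W)) (cjA h hD).range).index = F.index := rfl
    rw [h1]
    refine idx_le hN F ?_
    rintro w hw _ ⟨a, rfl⟩
    show (cjA h hD a) • (Additive.ofMul (QuotientGroup.mk w) : Additive (W ⧸ W0.subgroupOf W)) =
      Additive.ofMul (QuotientGroup.mk w)
    rw [hsmi]
    exact hV a a.2 w hw
  have hcmle : ∀ {D V : Subgroup Ω} (hD : D ≤ normalizerIn S E), V ≤ W → Com D W V →
      Nat.card (cm (Additive (W ⧸ W0.subgroupOf W)) (cjA h hD).range) ≤ W0.relIndex V := by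
    intro D V hD hVW hV
    let F : Subgroup (W ⧸ W0.subgroupOf W) :=
      Subgroup.toAddSubgroup.symm (cm (Additive (W ⧸ W0.subgroupOf W)) (cjA h hD).range)
    have h1 : Nat.card (cm (Additive (W ⧸ W0.subgroupOf W)) (cjA h hD).range) = Nat.card F := rfl
    rw [h1]
    refine card_le hN hVW F ?_
    have h2 : cm (Additive (W ⧸ W0.subgroupOf W)) (cjA h hD).range ≤ Subgroup.toAddSubgroup
        ((V.subgroupOf W).map (QuotientGroup.mk' (W0.subgroupOf W))) := by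
      unfold cm
      rw [AddSubgroup.closure_le]
      rintro _ ⟨_, ⟨a, rfl⟩, u, rfl⟩
      obtain ⟨w, hw⟩ := QuotientGroup.mk_surjective u.toMul
      obtain rfl : Additive.ofMul (QuotientGroup.mk w) = u := congrArg Additive.ofMul hw
      rw [hsub]
      refine ⟨res hW (cjA h hD a) w * w⁻¹, ?_, rfl⟩
      rw [SetLike.mem_coe, Subgroup.mem_subgroupOf]
      exact hV a a.2 w w.2
    exact h2
  constructor
  · intro V V' hV hV' hAV hBV'
    exact hmain.2.trans (Nat.mul_le_mul (hcmle hA hV hAV) (hcmle hB hV' hBV'))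
  · intro V V' hV hV' hAV hBV'
    exact hmain.1.trans (Nat.mul_le_mul (hfxle hA hAV) (hfxle hB hBV'))

theorem stSecC_of (b : B3083.{u}) : StSecC.{u} := by
  intro Ω _ S E p Γ h N M A0 A B W W' hN hM hNM hcom hexp hf hA0 hA0c hA0p hA0i hA hB hBE hW hW' hAW hBW
  exact (sec_gen b h hN hM hNM hcom hexp hf (Or.inr ⟨A0, hA0, hA0c, hA0p, hA0i⟩) hA hB hBE).1 W W' hW hW' hAW hBW

theorem stSecW_of (b : B3083.{u}) : StSecW.{u} := by
  intro Ω _ S E p Γ h N M A0 A B W W' hN hM hNM hcom hexp hf hA0 hA0c hA0p hA0i hA hB hBE hW hW' hAW hBW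
  exact (sec_gen b h hN hM hNM hcom hexp hf (Or.inr ⟨A0, hA0, hA0c, hA0p, hA0i⟩) hA hB hBE).2 W W' hW hW' hAW hBW

end Cfsg.Agent.H435.TE
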